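import Mathlib.AlgebraicTopology.SimplicialObject.Basic
import Mathlib.CategoryTheory.Adjunction.Evaluation
import Mathlib.CategoryTheory.Limits.FunctorCategory.Basic
import Mathlib.CategoryTheory.Limits.Constructions.LimitsOfProductsAndEqualizers
import Mathlib.CategoryTheory.Limits.Preserves.Finite
import Mathlib.CategoryTheory.Limits.Shapes.Pullback.IsPullback.Basic

/-!
# Forcing the `n`-th term of a functor to factor through a given morphism

For `K : E ⥤ D`, `c : E` and `u : Z ⟶ K.obj c` the pullback `L` of `K ⟶ R (K.obj c)` along `R Z ⟶ R (K.obj c)`,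
`R` the right adjoint of evaluation at `c`.
-/

set_option autoImplicit false

universe v u v₁ u₁

open CategoryTheory CategoryTheory.Limits Opposite

namespace Groth.Agent.Topos.H567.EvalPull

variable {D : Type u} [Category.{v} D] {E : Type u₁} [Category.{v₁} E]

set_option backward.isDefEq.respectTransparency false in
/-- The right adjoint of evaluation, with its projections. -/
theorem exists_coind [∀ a b : E, HasProductsOfShape (a ⟶ b) D] (c : E) {Z Y : D} (u : Z ⟶ Y)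
    (K : E ⥤ D) (k : K.obj c ⟶ Y) :
    ∃ (P Q : E ⥤ D) (b : P ⟶ Q) (a : K ⟶ Q) (π : ∀ m : E, (m ⟶ c) → (P.obj m ⟶ Z))
      (ρ : ∀ m : E, (m ⟶ c) → (Q.obj m ⟶ Y)),
      (∀ (m : E) (φ : m ⟶ c), b.app m ≫ ρ m φ = π m φ ≫ u) ∧
      (∀ (m : E) (φ : m ⟶ c), a.app m ≫ ρ m φ = K.map φ ≫ k) ∧
      (∀ (m : E) (φ : m ⟶ c), P.map φ ≫ π c (𝟙 c) = π m φ) ∧
      (∀ (m : E) (T : D) (z : (m ⟶ c) → (T ⟶ Z)), ∃ w : T ⟶ P.obj m, ∀ φ, w ≫ π m φ = z φ) ∧
      (∀ (m : E) (T : D) (w w' : T ⟶ P.obj m), (∀ φ, w ≫ π m φ = w' ≫ π m φ) → w = w') ∧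
      (∀ (m : E) (T : D) (w w' : T ⟶ Q.obj m), (∀ φ, w ≫ ρ m φ = w' ≫ ρ m φ) → w = w') := by
  let a : K ⟶ (evaluationRightAdjoint D c).obj Y :=
    { app := fun m => Pi.lift fun g : m ⟶ c => K.map g ≫ k
      naturality := fun m m' f => by
        refine Pi.hom_ext (f := fun _ : m' ⟶ c => Y) _ _ fun g => ?_
        have h1 : ((evaluationRightAdjoint D c).obj Y).map f ≫ Pi.π (fun _ : m' ⟶ c => Y) g =
          Pi.π (fun _ : m ⟶ c => Y) (f ≫ g) :=
          Pi.lift_π (f := fun _ : m' ⟶ c => Y) (fun g : m' ⟶ c => Pi.π (fun _ : m ⟶ c => Y) (f ≫ g)) g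
        refine (Category.assoc _ _ _).trans (Eq.trans ?_ (Category.assoc _ _ _).symm)
        refine (congrArg (K.map f ≫ ·) (Pi.lift_π (f := fun _ : m' ⟶ c => Y)
          (fun g : m' ⟶ c => K.map g ≫ k) g)).trans ?_
        refine Eq.trans ?_ (congrArg ((Pi.lift fun g : m ⟶ c => K.map g ≫ k) ≫ ·) h1).symm
        refine Eq.trans ?_ (Pi.lift_π (f := fun _ : m ⟶ c => Y) (fun g : m ⟶ c => K.map g ≫ k) (f ≫ g)).symm
        simp }
  refine ⟨(evaluationRightAdjoint D c).obj Z, (evaluationRightAdjoint D c).obj Y,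
    (evaluationRightAdjoint D c).map u, a,
    fun m φ => Pi.π (fun _ : m ⟶ c => Z) φ, fun m φ => Pi.π (fun _ : m ⟶ c => Y) φ, ?_, ?_, ?_, ?_, ?_, ?_⟩
  · intro m φ
    exact Pi.lift_π (f := fun _ : m ⟶ c => Y) (fun g : m ⟶ c => Pi.π (fun _ : m ⟶ c => Z) g ≫ u) φ
  · intro m φ
    exact Pi.lift_π (f := fun _ : m ⟶ c => Y) (fun g : m ⟶ c => K.map g ≫ k) φ
  · intro m φ
    refine (Pi.lift_π (f := fun _ : c ⟶ c => Z) (fun g : c ⟶ c => Pi.π (fun _ : m ⟶ c => Z) (φ ≫ g))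
      (𝟙 c)).trans ?_
    rw [Category.comp_id]
  · intro m T z
    exact ⟨Pi.lift z, fun φ => Pi.lift_π _ _⟩
  · intro m T w w' h
    exact Pi.hom_ext _ _ h
  · intro m T w w' h
    exact Pi.hom_ext _ _ h

/-- Let `K : E ⥤ D` and `u : Z ⟶ K.obj c`. There is a universal `p : L ⟶ K` together with a factorization
of `p.app c` through `u`; sections of `L.obj m` are described explicitly. -/
theorem exists_pull [HasPullbacks D] [∀ a b : E, HasProductsOfShape (a ⟶ b) D]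
    (K : E ⥤ D) (c : E) (Z : D) (u : Z ⟶ K.obj c) :
    ∃ (L : E ⥤ D) (p : L ⟶ K) (ε : L.obj c ⟶ Z), ε ≫ u = p.app c ∧
      (∀ (m : E) (T : D) (x : T ⟶ K.obj m) (z : (m ⟶ c) → (T ⟶ Z)),
        (∀ φ : m ⟶ c, z φ ≫ u = x ≫ K.map φ) →
        ∃ y : T ⟶ L.obj m, y ≫ p.app m = x ∧ ∀ φ : m ⟶ c, y ≫ L.map φ ≫ ε = z φ) ∧
      (∀ (m : E) (T : D) (y y' : T ⟶ L.obj m), y ≫ p.app m = y' ≫ p.app m →
        (∀ φ : m ⟶ c, y ≫ L.map φ ≫ ε = y' ≫ L.map φ ≫ ε) → y = y') := by
  obtain ⟨P, Q, b, a, π, ρ, hb, ha, hπ, hlift, hext, hext'⟩ := exists_coind c u K (𝟙 (K.obj c))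
  have sq := IsPullback.of_hasPullback a b
  have sqm : ∀ m : E, IsPullback ((pullback.fst a b).app m) ((pullback.snd a b).app m) (a.app m) (b.app m) :=
    fun m => sq.map ((evaluation E D).obj m)
  let ε : (pullback a b).obj c ⟶ Z := (pullback.snd a b).app c ≫ π c (𝟙 c)
  have hε : ∀ (m : E) (φ : m ⟶ c), (pullback a b).map φ ≫ ε = (pullback.snd a b).app m ≫ π m φ := by
    intro m φ
    rw [← hπ]
    exact NatTrans.naturality_assoc _ _ _
  refine ⟨pullback a b, pullback.fst a b, ε, ?_, ?_, ?_⟩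
  · have h1 := congrArg (fun z => z ≫ ρ c (𝟙 c)) (sqm c).w
    simp only [Category.assoc] at h1
    rw [ha, hb, K.map_id, Category.comp_id, Category.comp_id] at h1
    simp only [ε, Category.assoc]
    exact h1.symm
  · intro m T x z hz
    obtain ⟨w, hw⟩ := hlift m T z
    have h2 : x ≫ a.app m = w ≫ b.app m := by
      apply hext'
      intro φ
      rw [Category.assoc, Category.assoc, ha, hb, ← Category.assoc w, hw, hz, Category.comp_id]
    refine ⟨(sqm m).lift x w h2, (sqm m).lift_fst _ _ _, fun φ => ?_⟩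
    rw [hε, ← Category.assoc, (sqm m).lift_snd, hw]
  · intro m T y y' h1 h2
    apply (sqm m).hom_ext h1
    apply hext
    intro φ
    have := h2 φ
    rw [hε] at this
    rw [Category.assoc, Category.assoc]
    exact this

end Groth.Agent.Topos.H567.EvalPull
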