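import Groth.Agent.Topos.H567.Fill
import Groth.Agent.Topos.H567.EvalPull
import Mathlib.CategoryTheory.Limits.Constructions.Over.Basic

/-!
# Refining a hypercovering along a covering of one of its terms
-/

set_option autoImplicit false

universe u

open CategoryTheory CategoryTheory.Limits Opposite SimplexCategory Simplicial
open Groth.Agent.CohtopB.HyperTens (Compat fillSieve)
open Groth.Agent.CohtopB.HyperExist (homSieve)
open Groth.Agent.CohtopB.HyperSR (liftSieve isSRCovering_iff)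

namespace Groth.Agent.Topos.H567.Refine

section

variable {A : Type u} [SmallCategory A] (J : GrothendieckTopology A)

/-- Finite intersections of covering sieves. -/
lemma finite_inter_mem {T : A} {ι : Type*} [Finite ι] (S : ι → Sieve T) (hS : ∀ i, S i ∈ J T) :
    (⨅ i, S i) ∈ J T := by
  classical
  have := Fintype.ofFinite ι
  have h : ∀ s : Finset ι, (⨅ i ∈ s, S i) ∈ J T := by
    intro s
    induction s using Finset.induction with
    | empty => simp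
    | insert a s ha ih =>
      rw [Finset.iInf_insert]
      exact J.intersection_covering (hS a) ih
  have h' := h Finset.univ
  simpa using h'

/-- compatibility also holds in all dimensions -/
lemma compat_all {L : SimplicialObject (FormalCoproduct.{u} A)} {T : FormalCoproduct.{u} A} {m : ℕ}
    {y : Fin (m + 2) → (T ⟶ L.obj (op ⦋m⦌))} (hy : Compat L y) (i j : Fin (m + 2)) (n : ℕ)
    (β β' : ⦋n⦌ ⟶ ⦋m⦌) (h : β ≫ SimplexCategory.δ i = β' ≫ SimplexCategory.δ j) :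
    y i ≫ L.map β.op = y j ≫ L.map β'.op := by
  -- factor `β ≫ δ i` through its image
  let φ : ⦋n⦌ ⟶ ⦋m + 1⦌ := β ≫ SimplexCategory.δ i
  obtain ⟨k, hk⟩ : ∃ k : ℕ, (image φ).len = k := ⟨_, rfl⟩
  obtain ⟨I, e, μ, hμ, heμ, hI⟩ : ∃ (I : ℕ) (e : ⦋n⦌ ⟶ ⦋I⦌) (μ : ⦋I⦌ ⟶ ⦋m + 1⦌), Mono μ ∧ e ≫ μ = φ ∧ Epi e := by
    have : (image φ) = ⦋k⦌ := SimplexCategory.ext hk
    refine ⟨k, factorThruImage φ ≫ eqToHom this, eqToHom this.symm ≫ image.ι φ, inferInstance, by simp [φ], inferInstance⟩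
  -- the two factorizations
  have hmiss : ∀ (i : Fin (m + 2)) (β : ⦋n⦌ ⟶ ⦋m⦌), e ≫ μ = β ≫ SimplexCategory.δ i →
      ∃ γ : ⦋I⦌ ⟶ ⦋m⦌, μ = γ ≫ SimplexCategory.δ i ∧ β = e ≫ γ := by
    intro i β hβ
    have hsurj : Function.Surjective e.toOrderHom := epi_iff_surjective.1 hI
    obtain ⟨γ, hγ⟩ := SimplexCategory.eq_comp_δ_of_not_surjective' μ i (by
      intro a ha
      obtain ⟨b, rfl⟩ := hsurj a
      have h1 := congrArg (fun f => f.toOrderHom b) hβ
      change μ.toOrderHom (e.toOrderHom b) = i.succAbove (β.toOrderHom b) at h1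
      rw [h1] at ha
      exact Fin.succAbove_ne _ _ ha)
    refine ⟨γ, hγ, ?_⟩
    rw [← cancel_mono (SimplexCategory.δ i), Category.assoc, ← hγ, hβ]
  obtain ⟨γ, hγ, hβ⟩ := hmiss i β heμ
  obtain ⟨γ', hγ', hβ'⟩ := hmiss j β' (heμ.trans h)
  have hIm : I ≤ m := by
    have hm1 : Mono (γ ≫ SimplexCategory.δ i) := hγ ▸ hμ
    have : Mono γ := mono_of_mono γ (SimplexCategory.δ i)
    have := len_le_of_mono γ
    simpa using this
  rw [hβ, hβ', op_comp, op_comp, L.map_comp, L.map_comp, ← Category.assoc, ← Category.assoc,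
    hy i j I hIm γ γ' (hγ.symm.trans hγ')]

variable {J}

/-- Let `p : L ⟶ K` be the universal morphism whose `n`-th term factors through `u : Z ⟶ K_n`. If compatible
boundaries in `K` can be filled locally and `u` is covering, then compatible boundaries in `L` can be filled
locally. -/
theorem fillSieve_mem_of_pull {K L : SimplicialObject (FormalCoproduct.{u} A)} (p : L ⟶ K) {n : ℕ}
    {Z : FormalCoproduct.{u} A} (u : Z ⟶ K.obj (op ⦋n⦌)) (ε : L.obj (op ⦋n⦌) ⟶ Z)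
    (hε : ε ≫ u = p.app (op ⦋n⦌)) (hu : Hyper.IsSRCovering J u)
    (h1 : ∀ (m : SimplexCategoryᵒᵖ) (T : FormalCoproduct.{u} A) (x : T ⟶ K.obj m) (z : (m ⟶ op ⦋n⦌) → (T ⟶ Z)),
        (∀ φ : m ⟶ op ⦋n⦌, z φ ≫ u = x ≫ K.map φ) →
        ∃ y : T ⟶ L.obj m, y ≫ p.app m = x ∧ ∀ φ : m ⟶ op ⦋n⦌, y ≫ L.map φ ≫ ε = z φ)
    (h2 : ∀ (m : SimplexCategoryᵒᵖ) (T : FormalCoproduct.{u} A) (y y' : T ⟶ L.obj m),
        y ≫ p.app m = y' ≫ p.app m →
        (∀ φ : m ⟶ op ⦋n⦌, y ≫ L.map φ ≫ ε = y' ≫ L.map φ ≫ ε) → y = y') {m : ℕ}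
    {T : A} (y : Fin (m + 2) → ((FormalCoproduct.incl A).obj T ⟶ L.obj (op ⦋m⦌)))
    (hy : Compat L y)
    (hK : fillSieve (K := K) (fun i => y i ≫ p.app (op ⦋m⦌)) ∈ J T) : fillSieve y ∈ J T := by
  classical
  refine J.transitive hK _ ?_
  rintro T' g ⟨x, hx⟩
  -- local lifts of all the `n`-simplices
  have hS : (⨅ φ : (⦋n⦌ ⟶ ⦋m + 1⦌), liftSieve u (x ≫ K.map φ.op)) ∈ J T' :=
    finite_inter_mem J _ fun φ => (isSRCovering_iff u).1 hu T' _
  refine J.superset_covering ?_ hS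
  intro T'' h hh
  have hh' : ∀ φ : (⦋n⦌ ⟶ ⦋m + 1⦌), (liftSieve u (x ≫ K.map φ.op)).arrows h :=
    fun φ => iInf_le (fun φ : (⦋n⦌ ⟶ ⦋m + 1⦌) => liftSieve u (x ≫ K.map φ.op)) φ _ hh
  choose z hz using hh'
  -- the values on the non-surjective simplices are prescribed
  let P : (⦋n⦌ ⟶ ⦋m + 1⦌) → Prop := fun φ => ∃ (i : Fin (m + 2)) (φ' : ⦋n⦌ ⟶ ⦋m⦌), φ = φ' ≫ SimplexCategory.δ i
  let z' : (⦋n⦌ ⟶ ⦋m + 1⦌) → ((FormalCoproduct.incl A).obj T'' ⟶ Z) := fun φ =>
    if hφ : P φ then (FormalCoproduct.incl A).map (h ≫ g) ≫ y hφ.choose ≫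
      L.map (hφ.choose_spec.choose).op ≫ ε else z φ
  have hz' : ∀ (i : Fin (m + 2)) (φ' : ⦋n⦌ ⟶ ⦋m⦌), z' (φ' ≫ SimplexCategory.δ i) =
      (FormalCoproduct.incl A).map (h ≫ g) ≫ y i ≫ L.map φ'.op ≫ ε := by
    intro i φ'
    have hφ : P (φ' ≫ SimplexCategory.δ i) := ⟨i, φ', rfl⟩
    simp only [z', dif_pos hφ]
    have h3 := compat_all hy _ _ n _ _ hφ.choose_spec.choose_spec.symm
    rw [← Category.assoc (y _), h3, Category.assoc]
  have hz'' : ∀ φ : (⦋n⦌ ⟶ ⦋m + 1⦌), z' φ ≫ u = ((FormalCoproduct.incl A).map h ≫ x) ≫ K.map φ.op := by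
    intro φ
    by_cases hφ : P φ
    · obtain ⟨i, φ', rfl⟩ := hφ
      rw [hz', Category.assoc, Category.assoc, Category.assoc, hε, op_comp, K.map_comp, Category.assoc]
      have h3 : L.map φ'.op ≫ p.app (op ⦋n⦌) = p.app (op ⦋m⦌) ≫ K.map φ'.op := p.naturality _
      rw [h3, Functor.map_comp, Category.assoc, ← Category.assoc x, hx, Category.assoc, Category.assoc]
    · simp only [z', dif_neg hφ]
      rw [hz, Category.assoc]
  obtain ⟨w, hw1, hw2⟩ := h1 (op ⦋m + 1⦌) _ ((FormalCoproduct.incl A).map h ≫ x) (fun φ => z' φ.unop)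
    (fun φ => hz'' φ.unop)
  refine ⟨w, fun i => ?_⟩
  apply h2
  · have h3 : L.map (SimplexCategory.δ i).op ≫ p.app (op ⦋m⦌) = p.app (op ⦋m + 1⦌) ≫ K.map (SimplexCategory.δ i).op :=
      p.naturality _
    rw [Category.assoc, h3, ← Category.assoc, hw1, Category.assoc, hx, Functor.map_comp, Category.assoc,
      Category.assoc]
  · intro φ
    have h3 := hw2 ((SimplexCategory.δ i).op ≫ φ)
    rw [L.map_comp, Category.assoc] at h3
    rw [Category.assoc, h3]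
    have h4 := hz' i φ.unop
    rw [Category.assoc]
    exact h4

end

section

variable {C : Type u} [SmallCategory C] [HasPullbacks C] {J : GrothendieckTopology C} {X : C}

theorem exists_refinement
    [∀ (n : ℕ) (F : (SimplexCategory.Truncated n)ᵒᵖ ⥤ Limits.FormalCoproduct.{u} (Over X)),
      (SimplexCategory.Truncated.inclusion n).op.HasRightKanExtension F]
    (K : SimplicialObject (FormalCoproduct.{u} (Over X))) (hK : Hyper.IsHypercovering J X K) (n : ℕ)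
    (Z : FormalCoproduct.{u} (Over X)) (u : Z ⟶ K.obj (op (SimplexCategory.mk n)))
    (hu : Hyper.IsSRCovering (J.over X) u) :
    ∃ (L : SimplicialObject (FormalCoproduct.{u} (Over X))) (f : L ⟶ K)
      (g : L.obj (op (SimplexCategory.mk n)) ⟶ Z),
      Hyper.IsHypercovering J X L ∧ g ≫ u = f.app (op (SimplexCategory.mk n)) := by
  have : HasTerminal (Over X) := Over.mkIdTerminal.hasTerminal
  have : HasFiniteLimits (FormalCoproduct.{u} (Over X)) := hasFiniteLimits_of_hasTerminal_and_pullbacks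
  have : ∀ a b : SimplexCategoryᵒᵖ, Finite (a ⟶ b) := fun a b =>
    Finite.of_equiv _ (opEquiv a b).symm
  obtain ⟨L, p, ε, hε, h1, h2⟩ := EvalPull.exists_pull K (op ⦋n⦌) Z u
  refine ⟨L, p, ε, ?_, hε⟩
  rw [Fill.isHypercovering_iff_fill] at hK ⊢
  refine ⟨fun T => ?_, fun m T y hy => ?_⟩
  · refine (J.over X).transitive (hK.1 T) _ ?_
    rintro T' g ⟨x⟩
    have hS : (⨅ φ : (⦋n⦌ ⟶ ⦋0⦌), liftSieve u (x ≫ K.map φ.op)) ∈ J.over X T' :=
      finite_inter_mem _ _ fun φ => (isSRCovering_iff u).1 hu T' _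
    refine (J.over X).superset_covering ?_ hS
    intro T'' h hh
    have hh' : ∀ φ : (⦋n⦌ ⟶ ⦋0⦌), (liftSieve u (x ≫ K.map φ.op)).arrows h :=
      fun φ => iInf_le (fun φ : (⦋n⦌ ⟶ ⦋0⦌) => liftSieve u (x ≫ K.map φ.op)) φ _ hh
    choose z hz using hh'
    obtain ⟨y, -, -⟩ := h1 (op ⦋0⦌) _ ((FormalCoproduct.incl (Over X)).map h ≫ x) (fun φ => z φ.unop)
      (fun φ => by rw [hz, Category.assoc]; rfl)
    exact ⟨y⟩
  · refine fillSieve_mem_of_pull p u ε hε hu h1 h2 y hy (hK.2 m T _ ?_)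
    intro i j k hk β β' hβ
    have h3 : ∀ β : ⦋k⦌ ⟶ ⦋m⦌, p.app (op ⦋m⦌) ≫ K.map β.op = L.map β.op ≫ p.app (op ⦋k⦌) :=
      fun β => (p.naturality _).symm
    rw [Category.assoc, Category.assoc, h3, h3, ← Category.assoc, ← Category.assoc, hy i j k hk β β' hβ]

end

end Groth.Agent.Topos.H567.Refine
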