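import Groth.Agent.CohtopB.HyperTens
import Groth.Agent.CohtopB.HyperExist
import Groth.Agent.CohtopB.HypFill
import Groth.Agent.CohtopB.HyperSR

/-!
# Hypercoverings in terms of local fillings of compatible boundaries

`isHypercovering_iff_fill`: a simplicial semi-representable object `K` over `X` is a hypercovering iff
sections of `K_0` exist locally over every object of `Over X`, and every compatible boundary of sections of
`K_n` over `T` can be filled locally on `T`.
-/

set_option autoImplicit false

universe u

open CategoryTheory CategoryTheory.Limits Opposite SimplexCategory Simplicial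
open Groth.Agent.CohtopB.HyperTens (Compat fillSieve)
open Groth.Agent.CohtopB.HyperExist (homSieve)

namespace Groth.Agent.Topos.H567.Fill

section

variable {A : Type u} [SmallCategory A] (J : GrothendieckTopology A)
  (K : SimplicialObject (FormalCoproduct.{u} A))

lemma secCompat_of_compat {T : A} {n : ℕ}
    {y : Fin (n + 2) → ((FormalCoproduct.incl A).obj T ⟶ K.obj (op ⦋n⦌))} (hy : Compat K y) :
    Groth.Agent.CohtopB.HypFill.SecCompat K n y := by
  cases n with
  | zero => trivial
  | succ n =>
    intro i j hij
    exact hy j.succ i.castSucc n (Nat.le_succ n) (SimplexCategory.δ i) (SimplexCategory.δ j)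
      (SimplexCategory.δ_comp_δ hij)

/-- Converse of `HyperTens.isSRCovering_unit`. -/
theorem fillSieve_mem (n : ℕ) [∀ F : (SimplexCategory.Truncated n)ᵒᵖ ⥤ FormalCoproduct.{u} A,
      (SimplexCategory.Truncated.inclusion n).op.HasRightKanExtension F]
    (h : Hyper.IsSRCovering J
      (((SimplicialObject.coskAdj n).unit.app K).app (op (SimplexCategory.mk (n + 1)))))
    (T : A) (y : Fin (n + 2) → ((FormalCoproduct.incl A).obj T ⟶ K.obj (op ⦋n⦌)))
    (hy : Compat K y) : fillSieve y ∈ J T := by
  obtain ⟨c, hc⟩ := Groth.Agent.CohtopB.HypFill.exists_cosk_section y (secCompat_of_compat K hy)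
  refine J.superset_covering ?_ ((Groth.Agent.CohtopB.HyperSR.isSRCovering_iff _).1 h T c)
  rintro T' g ⟨z, hz⟩
  exact ⟨z, fun i => hc _ ((FormalCoproduct.incl A).map g) z hz i⟩

/-- The covering condition for the unit of the coskeleton adjunction, in terms of local fillings. -/
theorem isSRCovering_unit_iff (n : ℕ) [∀ F : (SimplexCategory.Truncated n)ᵒᵖ ⥤ FormalCoproduct.{u} A,
      (SimplexCategory.Truncated.inclusion n).op.HasRightKanExtension F] :
    Hyper.IsSRCovering J
      (((SimplicialObject.coskAdj n).unit.app K).app (op (SimplexCategory.mk (n + 1)))) ↔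
    ∀ (T : A) (y : Fin (n + 2) → ((FormalCoproduct.incl A).obj T ⟶ K.obj (op ⦋n⦌))),
      Compat K y → fillSieve y ∈ J T :=
  ⟨fun h T y hy => fillSieve_mem J K n h T y hy,
    fun h => Groth.Agent.CohtopB.HyperTens.isSRCovering_unit J K n h⟩

end

section

variable {C : Type u} [SmallCategory C] (J : GrothendieckTopology C) (X : C)

/-- A family over `X` covers `X` iff it has sections locally over every object of `Over X`. -/
theorem ofArrows_mem_iff_homSieve (K₀ : FormalCoproduct.{u} (Over X)) :
    Sieve.ofArrows (fun i => (K₀.obj i).left) (fun i => (K₀.obj i).hom) ∈ J X ↔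
      ∀ T : Over X, homSieve T K₀ ∈ J.over X T := by
  constructor
  · intro h T
    rw [GrothendieckTopology.mem_over_iff]
    refine J.superset_covering ?_ (J.pullback_stable T.hom h)
    rintro V g ⟨W, a, b, ⟨i⟩, hab⟩
    rw [Sieve.overEquiv_iff]
    exact ⟨FormalCoproduct.Hom.fromIncl i (Over.homMk a hab)⟩
  · intro h
    have h' := h (Over.mk (𝟙 X))
    rw [GrothendieckTopology.mem_over_iff] at h'
    refine J.superset_covering ?_ h'
    intro Z f hf
    rw [Sieve.overEquiv_iff] at hf
    obtain ⟨x⟩ := hf
    have hw := Over.w (x.φ PUnit.unit)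
    exact ⟨_, (x.φ PUnit.unit).left, _, Presieve.ofArrows.mk (x.f PUnit.unit), hw.trans (Category.comp_id f)⟩

/-- A simplicial semi-representable object over `X` is a hypercovering iff sections of `K_0` exist locally
and compatible boundaries of sections can be filled locally. -/
theorem isHypercovering_iff_fill (K : SimplicialObject (FormalCoproduct.{u} (Over X)))
    [∀ (n : ℕ) (F : (SimplexCategory.Truncated n)ᵒᵖ ⥤ FormalCoproduct.{u} (Over X)),
      (SimplexCategory.Truncated.inclusion n).op.HasRightKanExtension F] :
    Hyper.IsHypercovering J X K ↔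
      (∀ T : Over X, homSieve T (K.obj (op ⦋0⦌)) ∈ J.over X T) ∧
      ∀ (n : ℕ) (T : Over X)
        (y : Fin (n + 2) → ((FormalCoproduct.incl (Over X)).obj T ⟶ K.obj (op ⦋n⦌))),
        Compat K y → fillSieve y ∈ J.over X T := by
  unfold Hyper.IsHypercovering
  refine and_congr (ofArrows_mem_iff_homSieve J X _) (forall_congr' fun n => ?_)
  exact isSRCovering_unit_iff (J.over X) K n

end

end Groth.Agent.Topos.H567.Fill
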